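import Mathlib.LinearAlgebra.Matrix.ToLinearEquiv
import Mathlib.LinearAlgebra.FiniteDimensional.Lemmas
import Mathlib.Topology.Algebra.Module.ModuleTopology
import Mathlib.Topology.Algebra.Order.Archimedean
import Mathlib.Topology.Instances.Real.Lemmas
import Mathlib.Analysis.Convex.Basic
import Mathlib.Tactic

/-!
# Real bilinear forms of signature `(1, n)`, lattices, and their positive cones

Pure linear algebra behind the cones of divisor classes on a surface.
-/

open Matrix

namespace Groth.Agent.NumCone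

section General

variable {V : Type*} [AddCommGroup V] [Module ℝ V] {B : V →ₗ[ℝ] V →ₗ[ℝ] ℝ} {h x y : V}

/-- Symmetric, positive at `h`, negative definite on the orthogonal of `h`. -/
structure Hyp (B : V →ₗ[ℝ] V →ₗ[ℝ] ℝ) (h : V) : Prop where
  symm : ∀ x y, B x y = B y x
  pos : 0 < B h h
  neg : ∀ y, B y h = 0 → y ≠ 0 → B y y < 0

/-- The component of the positive cone containing `h`. -/
def cone (B : V →ₗ[ℝ] V →ₗ[ℝ] ℝ) (h : V) : Set V := {x | 0 < B x x ∧ 0 < B x h}

theorem Hyp.self_mem (H : Hyp B h) : h ∈ cone B h := ⟨H.pos, H.pos⟩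

theorem smul_mem_cone {t : ℝ} (ht : 0 < t) (hx : x ∈ cone B h) : t • x ∈ cone B h := by
  obtain ⟨h1, h2⟩ := hx
  simp only [cone, Set.mem_ofPred_eq, map_smul, LinearMap.smul_apply, smul_eq_mul]
  exact ⟨by positivity, by positivity⟩

theorem Hyp.eq_zero_of_sq_nonneg (H : Hyp B h) (hy : B y h = 0) (hyy : 0 ≤ B y y) : y = 0 := by
  by_contra hne
  exact absurd (H.neg y hy hne) (not_lt.2 hyy)

theorem Hyp.eq_zero_of_orthogonal (H : Hyp B h) (hx : 0 < B x x) (hyy : 0 ≤ B y y) (hxy : B x y = 0) :
    y = 0 := by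
  by_cases hyh : B y h = 0
  · exact H.eq_zero_of_sq_nonneg hyh hyy
  exfalso
  set z : V := (B y h) • x - (B x h) • y with hz
  have hzh : B z h = 0 := by
    simp only [hz, map_sub, map_smul, LinearMap.sub_apply, LinearMap.smul_apply, smul_eq_mul]; ring
  have hzz : B z z = (B y h) ^ 2 * B x x + (B x h) ^ 2 * B y y := by
    simp only [hz, map_sub, map_smul, LinearMap.sub_apply, LinearMap.smul_apply, smul_eq_mul]
    rw [H.symm y x, hxy]; ring
  have hpos : 0 < B z z := by rw [hzz]; positivity
  have hz0 := H.eq_zero_of_sq_nonneg hzh hpos.le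
  rw [hz0] at hpos
  simp at hpos

theorem Hyp.pos_of_mem_cone (H : Hyp B h) (hx : x ∈ cone B h) (hyy : 0 ≤ B y y) (hyh : 0 < B y h) :
    0 < B x y := by
  obtain ⟨hxx, hxh⟩ := hx
  by_contra hle
  set z : V := (B y h) • x - (B x h) • y with hz
  have hzh : B z h = 0 := by
    simp only [hz, map_sub, map_smul, LinearMap.sub_apply, LinearMap.smul_apply, smul_eq_mul]; ring
  have hzz : B z z = (B y h) ^ 2 * B x x - 2 * (B y h * B x h * B x y) + (B x h) ^ 2 * B y y := by
    simp only [hz, map_sub, map_smul, LinearMap.sub_apply, LinearMap.smul_apply, smul_eq_mul]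
    rw [H.symm y x]; ring
  have h1 : B y h * B x h * B x y ≤ 0 :=
    mul_nonpos_of_nonneg_of_nonpos (by positivity) (not_lt.1 hle)
  have hpos : 0 < B z z := by
    rw [hzz]
    have : (0 : ℝ) < (B y h) ^ 2 * B x x := by positivity
    have : (0 : ℝ) ≤ (B x h) ^ 2 * B y y := by positivity
    linarith
  rw [H.eq_zero_of_sq_nonneg hzh hpos.le] at hpos
  simp at hpos

theorem Hyp.add_mem_cone (H : Hyp B h) (hx : x ∈ cone B h) (hy : y ∈ cone B h) : x + y ∈ cone B h := by
  have hxy := H.pos_of_mem_cone hx hy.1.le hy.2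
  obtain ⟨hxx, hxh⟩ := hx
  obtain ⟨hyy, hyh⟩ := hy
  simp only [cone, Set.mem_ofPred_eq, map_add, LinearMap.add_apply]
  rw [H.symm y x]
  exact ⟨by linarith, by linarith⟩

theorem Hyp.convex_cone (H : Hyp B h) : Convex ℝ (cone B h) := by
  intro x hx y hy a b ha hb hab
  rcases eq_or_lt_of_le ha with rfl | ha'
  · rw [zero_add] at hab; subst hab; simpa using hy
  rcases eq_or_lt_of_le hb with rfl | hb'
  · rw [add_zero] at hab; subst hab; simpa using hx
  exact H.add_mem_cone (smul_mem_cone ha' hx) (smul_mem_cone hb' hy)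

theorem apply_sum_sum {ι κ : Type*} [Fintype ι] [Fintype κ] (a : ι → ℝ) (v : ι → V) (c : κ → ℝ) (w : κ → V) :
    B (∑ i, a i • v i) (∑ j, c j • w j) = ∑ i, ∑ j, a i * c j * B (v i) (w j) := by
  simp only [map_sum, map_smul, LinearMap.sum_apply, LinearMap.smul_apply, smul_eq_mul, Finset.mul_sum]
  exact Finset.sum_comm.trans (Finset.sum_congr rfl fun i _ => Finset.sum_congr rfl fun j _ => by ring)

/-- A form integral on generators is integral on the lattice they generate. -/
theorem exists_int_of_mem_closure {W : Type*} [AddCommGroup W] [Module ℝ W] {B : W →ₗ[ℝ] W →ₗ[ℝ] ℝ} {S : Set W}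
    (hint : ∀ s ∈ S, ∀ t ∈ S, ∃ n : ℤ, B s t = n) {v : W} (hv : v ∈ AddSubgroup.closure S) {w : W}
    (hw : w ∈ AddSubgroup.closure S) : ∃ m : ℤ, B v w = m := by
  induction hv, hw using AddSubgroup.closure_induction₂ with
  | mem v w hv hw => exact hint v hv w hw
  | zero_left w hw => exact ⟨0, by simp⟩
  | zero_right v hv => exact ⟨0, by simp⟩
  | add_left x y z _ _ _ h₁ h₂ =>
    obtain ⟨a, ha⟩ := h₁; obtain ⟨c, hc⟩ := h₂; exact ⟨a + c, by simp [ha, hc]⟩
  | add_right y z x _ _ _ h₁ h₂ =>
    obtain ⟨a, ha⟩ := h₁; obtain ⟨c, hc⟩ := h₂; exact ⟨a + c, by simp [ha, hc]⟩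
  | neg_left x y _ _ h₁ => obtain ⟨a, ha⟩ := h₁; exact ⟨-a, by simp [ha]⟩
  | neg_right x y _ _ h₁ => obtain ⟨a, ha⟩ := h₁; exact ⟨-a, by simp [ha]⟩

end General

section IntMatrix

variable {ι : Type*} [Fintype ι]

theorem continuous_quad (M : ι → ι → ℝ) : Continuous fun c : ι → ℝ => ∑ i, ∑ j, c i * c j * M i j := by
  fun_prop

/-- A quadratic inequality on integer vectors holds for real vectors. -/
theorem quad_nonpos_of_int (M : ι → ι → ℝ)
    (h : ∀ a : ι → ℤ, ∑ i, ∑ j, (a i : ℝ) * a j * M i j ≤ 0) (c : ι → ℝ) :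
    ∑ i, ∑ j, c i * c j * M i j ≤ 0 := by
  classical
  have hcl : IsClosed {c : ι → ℝ | ∑ i, ∑ j, c i * c j * M i j ≤ 0} :=
    isClosed_le (continuous_quad M) continuous_const
  have hd : DenseRange (Pi.map fun _ : ι => ((↑) : ℚ → ℝ)) :=
    DenseRange.piMap fun _ => Rat.denseRange_cast
  refine hd.induction_on c hcl fun q => ?_
  set d : ℕ := ∏ i, (q i).den with hd'
  have hdpos : 0 < d := Finset.prod_pos fun i _ => (q i).den_pos
  have ha : ∀ i, ∃ a : ℤ, (a : ℝ) = d * (q i : ℝ) := by
    intro i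
    obtain ⟨e, he⟩ : (q i).den ∣ d := Finset.dvd_prod_of_mem _ (Finset.mem_univ i)
    refine ⟨(q i).num * e, ?_⟩
    have h1 : ((q i).num : ℝ) = (q i : ℝ) * ((q i).den : ℝ) := by
      have := (q i).mul_den_eq_num
      exact_mod_cast this.symm
    rw [he]; push_cast; rw [h1]; ring
  choose a ha using ha
  have := h a
  simp only [ha] at this
  have hfac : ∑ i, ∑ j, (d * (q i : ℝ)) * (d * (q j : ℝ)) * M i j =
      (d : ℝ) ^ 2 * ∑ i, ∑ j, (q i : ℝ) * (q j : ℝ) * M i j := by
    simp only [Finset.mul_sum]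
    exact Finset.sum_congr rfl fun i _ => Finset.sum_congr rfl fun j _ => by ring
  rw [hfac] at this
  have hd2 : (0 : ℝ) < (d : ℝ) ^ 2 := by positivity
  simp only [Pi.map_apply]
  exact nonpos_of_mul_nonpos_right (by linarith) hd2

/-- An integral matrix with no integral kernel vector has no real one. -/
theorem eq_zero_of_int_kernel (M : ι → ι → ℤ)
    (h : ∀ a : ι → ℤ, (∀ j, ∑ i, a i * M i j = 0) → a = 0)
    {c : ι → ℝ} (hc : ∀ j, ∑ i, c i * (M i j : ℝ) = 0) : c = 0 := by
  classical
  by_contra hne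
  let G : Matrix ι ι ℤ := Matrix.of M
  have hdetR : (G.map (Int.castRingHom ℝ)).det = 0 :=
    exists_vecMul_eq_zero_iff.1 ⟨c, hne, funext fun j => by
      simpa [Matrix.vecMul, dotProduct, G, Pi.zero_apply] using hc j⟩
  have hdet : G.det = 0 := by
    have h1 := (RingHom.map_det (Int.castRingHom ℝ) G).trans hdetR
    exact Int.cast_eq_zero.1 h1
  obtain ⟨a, ha0, ha⟩ := exists_vecMul_eq_zero_iff.2 hdet
  exact ha0 (h a fun j => by simpa [Matrix.vecMul, dotProduct, G] using congrFun ha j)

/-- Negative definiteness on integer vectors passes to real vectors. -/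
theorem negDef_real (M : ι → ι → ℤ) (hs : ∀ i j, M i j = M j i)
    (h : ∀ a : ι → ℤ, a ≠ 0 → ∑ i, ∑ j, a i * a j * M i j < 0) {c : ι → ℝ} (hc : c ≠ 0) :
    ∑ i, ∑ j, c i * c j * (M i j : ℝ) < 0 := by
  classical
  have hle : ∀ c : ι → ℝ, ∑ i, ∑ j, c i * c j * (M i j : ℝ) ≤ 0 := by
    refine quad_nonpos_of_int _ fun a => ?_
    by_cases ha : a = 0
    · simp [ha]
    · exact_mod_cast (h a ha).le
  refine lt_of_le_of_ne (hle c) fun hQ => hc (eq_zero_of_int_kernel M (fun a ha => ?_) fun j => ?_)
  · by_contra hne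
    refine (h a hne).ne ?_
    rw [Finset.sum_comm]
    exact Finset.sum_eq_zero fun j _ => by
      rw [show (0 : ℤ) = a j * ∑ i, a i * M i j by rw [ha j, mul_zero], Finset.mul_sum]
      exact Finset.sum_congr rfl fun i _ => by ring
  · set L : ℝ := ∑ i, c i * (M i j : ℝ) with hL
    set m : ℝ := (M j j : ℝ)
    have hexp : ∀ t : ℝ, t * (2 * L) + t ^ 2 * m ≤ 0 := by
      intro t
      have := hle (c + t • Pi.single j 1)
      simp only [Pi.add_apply, Pi.smul_apply, smul_eq_mul] at this
      have he : ∑ i, ∑ l, (c i + t * Pi.single (M := fun _ => ℝ) j 1 i) * (c l + t * Pi.single (M := fun _ => ℝ) j 1 l) * (M i l : ℝ) =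
          (∑ i, ∑ l, c i * c l * (M i l : ℝ)) + t * (2 * L) + t ^ 2 * m := by
        have e1 : ∀ i l, (c i + t * Pi.single (M := fun _ => ℝ) j 1 i) * (c l + t * Pi.single (M := fun _ => ℝ) j 1 l) * (M i l : ℝ) =
            c i * c l * (M i l : ℝ) + t * c i * (Pi.single (M := fun _ => ℝ) j 1 l * (M i l : ℝ)) +
              t * c l * (Pi.single (M := fun _ => ℝ) j 1 i * (M i l : ℝ)) +
              t ^ 2 * (Pi.single (M := fun _ => ℝ) j 1 i * (Pi.single (M := fun _ => ℝ) j 1 l * (M i l : ℝ))) := fun i l => by ring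
        simp only [e1, Finset.sum_add_distrib]
        simp only [← Finset.mul_sum, Pi.single_apply, ite_mul, one_mul, zero_mul, mul_ite, mul_zero,
          Finset.sum_ite_eq', Finset.mem_univ, if_true, Finset.sum_const_zero]
        rw [hL, Finset.mul_sum, Finset.mul_sum]
        have e2 : ∀ l, t * c l * (M j l : ℝ) = t * c l * (M l j : ℝ) := fun l => by rw [hs j l]
        simp only [e2, Finset.sum_ite_irrel, Finset.sum_const_zero, Finset.sum_ite_eq', Finset.mem_univ, if_true, mul_ite, mul_zero, m]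
        rw [add_assoc (∑ i, ∑ l, c i * c l * (M i l : ℝ)), ← Finset.sum_add_distrib]
        congr 2
        exact Finset.sum_congr rfl fun l _ => by ring
      rw [he, hQ] at this
      linarith
    rcases eq_or_ne m 0 with hm | hm
    · have h1 := hexp L
      rw [hm] at h1
      nlinarith
    · have hmneg : m < 0 := lt_of_le_of_ne (by
        have := hle (Pi.single j 1)
        simpa [Pi.single_apply, m] using this) hm
      have h1 := hexp (-L / m)
      have : -(L ^ 2) / m ≤ 0 := by
        calc -(L ^ 2) / m = (-L / m) * (2 * L) + (-L / m) ^ 2 * m := by field_simp; ring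
          _ ≤ 0 := h1
      have h2 : 0 ≤ -(L ^ 2) := by
        rcases div_nonpos_iff.1 this with ⟨h, _⟩ | ⟨_, h⟩
        · exact h
        · linarith
      nlinarith

/-- For a negative definite matrix with non-negative off-diagonal entries, `G a ≤ 0` forces `0 ≤ a`. -/
theorem nonneg_of_negDef (M : ι → ι → ℝ) (hoff : ∀ i j, i ≠ j → 0 ≤ M i j)
    (hneg : ∀ c : ι → ℝ, c ≠ 0 → ∑ i, ∑ j, c i * c j * M i j < 0)
    {a : ι → ℝ} (ha : ∀ j, ∑ i, a i * M i j ≤ 0) : ∀ i, 0 ≤ a i := by
  classical
  by_contra hcon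
  push Not at hcon
  obtain ⟨i₀, hi₀⟩ := hcon
  set n : ι → ℝ := fun i => max (-a i) 0 with hn
  have hne : n ≠ 0 := fun h => by
    have := congrFun h i₀
    simp only [hn, Pi.zero_apply] at this
    linarith [le_max_left (-a i₀) 0]
  have h1 : ∑ i, ∑ j, a i * n j * M i j ≤ 0 := by
    rw [Finset.sum_comm]
    refine Finset.sum_nonpos fun j _ => ?_
    rw [show ∑ i, a i * n j * M i j = n j * ∑ i, a i * M i j by
      rw [Finset.mul_sum]; exact Finset.sum_congr rfl fun i _ => by ring]
    exact mul_nonpos_of_nonneg_of_nonpos (le_max_right _ _) (ha j)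
  have h2 : 0 ≤ ∑ i, ∑ j, (a i + n i) * n j * M i j := by
    refine Finset.sum_nonneg fun i _ => Finset.sum_nonneg fun j _ => ?_
    have hp : 0 ≤ a i + n i := by simp only [hn]; linarith [le_max_left (-a i) 0]
    rcases eq_or_ne i j with rfl | hij
    · rcases le_total 0 (a i) with h | h
      · simp [hn, h]
      · simp [hn, h]
    · exact mul_nonneg (mul_nonneg hp (le_max_right _ _)) (hoff i j hij)
  have h3 := hneg n hne
  simp only [add_mul, Finset.sum_add_distrib] at h2
  linarith

end IntMatrix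

section Lattice

variable {V : Type*} [AddCommGroup V] [Module ℝ V] [FiniteDimensional ℝ V]
  {B : V →ₗ[ℝ] V →ₗ[ℝ] ℝ} {h : V}

/-- An integral lattice on which the form is non-degenerate and negative semidefinite on the orthogonal
of `h` gives a form of signature `(1, n)`. -/
theorem Hyp.of_lattice (S : Set V) (hspan : Submodule.span ℝ S = ⊤)
    (hint : ∀ s ∈ S, ∀ t ∈ S, ∃ n : ℤ, B s t = n)
    (hsymm : ∀ s ∈ S, ∀ t ∈ S, B s t = B t s)
    (hnd : ∀ v ∈ AddSubgroup.closure S, (∀ s ∈ S, B v s = 0) → v = 0)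
    (hh : h ∈ AddSubgroup.closure S) (hpos : 0 < B h h)
    (hneg : ∀ v ∈ AddSubgroup.closure S, B v h = 0 → B v v ≤ 0) : Hyp B h := by
  classical
  have hBsymm : ∀ x y, B x y = B y x := by
    have : B = B.flip := LinearMap.ext_on hspan fun s hs => LinearMap.ext_on hspan fun t ht => by
      simpa using hsymm s hs t ht
    intro x y
    conv_lhs => rw [this]
    rfl
  obtain ⟨S₀, hS₀, hspan₀, hli⟩ := exists_linearIndependent ℝ S
  let b : Module.Basis S₀ ℝ V := Module.Basis.mk hli (by simp [hspan₀, hspan])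
  haveI : Fintype S₀ := FiniteDimensional.fintypeBasisIndex b
  have hbv : ∀ i, b i = i.1 := fun i => Module.Basis.mk_apply hli _ i
  choose n hn using fun i j : S₀ => hint i.1 (hS₀ i.2) j.1 (hS₀ j.2)
  have hmem : ∀ i, b i ∈ AddSubgroup.closure S := fun i => AddSubgroup.subset_closure (hbv i ▸ hS₀ i.2)
  have hcomb : ∀ a : S₀ → ℤ, ∑ i, (a i : ℝ) • b i ∈ AddSubgroup.closure S := fun a =>
    AddSubgroup.sum_mem _ fun i _ => by
      rw [Int.cast_smul_eq_zsmul]
      exact AddSubgroup.zsmul_mem _ (hmem i) _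
  obtain ⟨N, hN⟩ := exists_int_of_mem_closure hint hh hh
  refine ⟨hBsymm, hpos, fun y hy hy0 => ?_⟩
  have hker : ∀ v : V, (∀ z, B v z = 0) → v = 0 := by
    intro v hv
    have hc : b.equivFun v = 0 := by
      refine eq_zero_of_int_kernel n (fun a ha => ?_) fun j => ?_
      · have hz : ∑ i, (a i : ℝ) • b i = 0 := by
          refine hnd _ (hcomb a) fun s hs => ?_
          have hall : B (∑ i, (a i : ℝ) • b i) = 0 := b.ext fun j => by
            simp only [map_sum, map_smul, LinearMap.sum_apply, LinearMap.smul_apply, smul_eq_mul,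
              LinearMap.zero_apply, hbv, hn]
            exact_mod_cast ha j
          rw [hall]; rfl
        funext i
        have := Fintype.linearIndependent_iff.1 b.linearIndependent _ hz i
        exact_mod_cast this
      · have := hv (b j)
        rw [← b.sum_equivFun v] at this
        simpa [map_sum, hbv, hn] using this
    exact b.equivFun.map_eq_zero_iff.1 hc
  have hsemi : ∀ y, B h h * B y y - B y h ^ 2 ≤ 0 := by
    intro y
    let M : S₀ → S₀ → ℝ := fun i j => B h h * B (b i) (b j) - B (b i) h * B (b j) h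
    have hquad : ∀ c : S₀ → ℝ, B h h * B (∑ i, c i • b i) (∑ i, c i • b i) - B (∑ i, c i • b i) h ^ 2 =
        ∑ i, ∑ j, c i * c j * M i j := fun c => by
      have e : B (∑ i, c i • b i) h = ∑ i, c i * B (b i) h := by simp [map_sum]
      rw [apply_sum_sum, e, sq, Finset.sum_mul_sum, Finset.mul_sum, ← Finset.sum_sub_distrib]
      refine Finset.sum_congr rfl fun i _ => ?_
      rw [Finset.mul_sum, ← Finset.sum_sub_distrib]
      exact Finset.sum_congr rfl fun j _ => by simp only [M]; ring
    rw [← b.sum_equivFun y, hquad]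
    refine quad_nonpos_of_int M (fun a => ?_) _
    rw [← hquad]
    have hvmem := hcomb a
    generalize ∑ i, (a i : ℝ) • b i = v at hvmem ⊢
    obtain ⟨m, hm⟩ := exists_int_of_mem_closure hint hvmem hh
    have hw := hneg (N • v - m • h)
      (AddSubgroup.sub_mem _ (AddSubgroup.zsmul_mem _ hvmem _) (AddSubgroup.zsmul_mem _ hh _))
      (by
        simp only [← Int.cast_smul_eq_zsmul ℝ, map_sub, map_smul, LinearMap.sub_apply, LinearMap.smul_apply,
          smul_eq_mul, hm, hN]
        ring)
    simp only [← Int.cast_smul_eq_zsmul ℝ, map_sub, map_smul, LinearMap.sub_apply, LinearMap.smul_apply,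
      smul_eq_mul, hBsymm h v, hm, hN] at hw
    rw [hm, hN]
    have hNpos : (0 : ℝ) < N := hN ▸ hpos
    nlinarith
  by_contra hnot
  have hyy : B y y = 0 := by
    have := hsemi y
    rw [hy] at this
    rcases lt_trichotomy (B y y) 0 with h1 | h1 | h1
    · exact absurd h1 hnot
    · exact h1
    · nlinarith
  refine hy0 (hker y fun z => ?_)
  set w : V := B h h • z - B z h • h with hw
  have hwh : B w h = 0 := by simp [hw]; ring
  have hyw : B y w = B h h * B y z := by simp [hw, hy]
  set t := B y w with ht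
  set q := B w w with hq
  have hline : ∀ s : ℝ, 2 * s * t + s ^ 2 * q ≤ 0 := by
    intro s
    have h2 := hsemi (y + s • w)
    simp only [map_add, map_smul, LinearMap.add_apply, LinearMap.smul_apply, smul_eq_mul, hy, hwh,
      hyy, hBsymm w y, ← ht, ← hq] at h2
    nlinarith
  have ht0 : t = 0 := by
    rcases eq_or_ne q 0 with hq0 | hq0
    · have h1 := hline t
      rw [hq0] at h1
      nlinarith
    · have hqneg : q < 0 := by
        refine lt_of_le_of_ne ?_ hq0
        have := hsemi w
        rw [hwh, ← hq] at this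
        nlinarith
      have h1 := hline (-t / q)
      have h3 : -(t ^ 2) / q ≤ 0 := by
        calc -(t ^ 2) / q = 2 * (-t / q) * t + (-t / q) ^ 2 * q := by field_simp; ring
          _ ≤ 0 := h1
      rcases div_nonpos_iff.1 h3 with ⟨h4, _⟩ | ⟨_, h4⟩
      · nlinarith
      · linarith
  rw [hyw, mul_eq_zero] at ht0
  exact ht0.resolve_left hpos.ne'

variable [TopologicalSpace V] [IsModuleTopology ℝ V]

theorem continuous_apply_self (B : V →ₗ[ℝ] V →ₗ[ℝ] ℝ) : Continuous fun x : V => B x x :=
  (IsModuleTopology.continuous_bilinear_of_finite_left B).comp (continuous_id.prodMk continuous_id)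

theorem continuous_apply_left (B : V →ₗ[ℝ] V →ₗ[ℝ] ℝ) (y : V) : Continuous fun x : V => B x y :=
  IsModuleTopology.continuous_of_linearMap (B.flip y)

theorem continuous_apply_right (B : V →ₗ[ℝ] V →ₗ[ℝ] ℝ) (x : V) : Continuous fun y : V => B x y :=
  IsModuleTopology.continuous_of_linearMap (B x)

theorem isOpen_cone (B : V →ₗ[ℝ] V →ₗ[ℝ] ℝ) (h : V) : IsOpen (cone B h) :=
  (isOpen_lt continuous_const (continuous_apply_self B)).inter
    (isOpen_lt continuous_const (continuous_apply_left B h))

/-- Positive rational multiples of lattice points are dense. -/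
theorem exists_smul_mem_of_isOpen {S : Set V} (hspan : Submodule.span ℝ S = ⊤) {O : Set V} (hO : IsOpen O)
    (hne : O.Nonempty) : ∃ v ∈ AddSubgroup.closure S, ∃ r : ℝ, 0 < r ∧ r • v ∈ O := by
  classical
  obtain ⟨S₀, hS₀, hspan₀, hli⟩ := exists_linearIndependent ℝ S
  let b : Module.Basis S₀ ℝ V := Module.Basis.mk hli (by simp [hspan₀, hspan])
  haveI : Fintype S₀ := FiniteDimensional.fintypeBasisIndex b
  haveI : ContinuousAdd V := IsModuleTopology.toContinuousAdd ℝ V
  have hd : DenseRange fun q : S₀ → ℚ => b.equivFun.symm fun i => (q i : ℝ) :=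
    DenseRange.comp b.equivFun.symm.surjective.denseRange
      (DenseRange.piMap fun _ : S₀ => Rat.denseRange_cast (𝕜 := ℝ))
      (IsModuleTopology.continuous_of_linearMap b.equivFun.symm.toLinearMap)
  obtain ⟨q, hq⟩ := hd.exists_mem_open hO hne
  set d : ℕ := ∏ i, (q i).den with hd'
  have hdpos : 0 < d := Finset.prod_pos fun i _ => (q i).den_pos
  have ha : ∀ i, ∃ a : ℤ, (a : ℝ) = d * (q i : ℝ) := by
    intro i
    obtain ⟨e, he⟩ : (q i).den ∣ d := Finset.dvd_prod_of_mem _ (Finset.mem_univ i)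
    refine ⟨(q i).num * e, ?_⟩
    have h1 : ((q i).num : ℝ) = (q i : ℝ) * ((q i).den : ℝ) := by
      exact_mod_cast (q i).mul_den_eq_num.symm
    rw [he]; push_cast; rw [h1]; ring
  choose a ha using ha
  refine ⟨∑ i, a i • b i, AddSubgroup.sum_mem _ fun i _ => AddSubgroup.zsmul_mem _
    (AddSubgroup.subset_closure (by rw [Module.Basis.mk_apply]; exact hS₀ i.2)) _, (d : ℝ)⁻¹, by positivity, ?_⟩
  convert hq using 1
  rw [Finset.smul_sum, Module.Basis.equivFun_symm_apply]
  refine Finset.sum_congr rfl fun i _ => ?_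
  rw [← Int.cast_smul_eq_zsmul ℝ, smul_smul, ha, ← mul_assoc, inv_mul_cancel₀ (by positivity), one_mul]

omit [IsModuleTopology ℝ V] [TopologicalSpace V] in
/-- A class pairing non-negatively with the cone and with `h` has non-negative square. -/
theorem Hyp.sq_nonneg_of_dual (H : Hyp B h) {x : V} (hC : ∀ y ∈ cone B h, 0 ≤ B x y) : 0 ≤ B x x := by
  by_contra hneg
  rw [not_le] at hneg
  have hxh : 0 ≤ B x h := hC h H.self_mem
  set P : ℝ → ℝ := fun t => B x x + 2 * t * B x h + t ^ 2 * B h h with hP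
  have hex : ∃ t₀ : ℝ, 0 < t₀ ∧ P t₀ = 0 := by
    set disc : ℝ := (B x h) ^ 2 - B h h * B x x
    have hd : 0 < disc := by have := H.pos; simp only [disc]; nlinarith
    have hroot : B x h < Real.sqrt disc := by
      rw [Real.lt_sqrt hxh]; have := H.pos; simp only [disc]; nlinarith
    have hs := Real.sq_sqrt hd.le
    refine ⟨(Real.sqrt disc - B x h) / B h h, div_pos (by linarith) H.pos, ?_⟩
    simp only [hP]
    have := H.pos.ne'
    field_simp
    simp only [disc] at hs ⊢
    nlinarith
  obtain ⟨t₀, ht₀, hP0⟩ := hex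
  have key : B x x + t₀ * B x h < 0 := by
    simp only [hP] at hP0
    have := mul_nonneg ht₀.le hxh
    have := H.pos
    have : 0 < t₀ ^ 2 * B h h := by positivity
    nlinarith
  set ε : ℝ := if B x h = 0 then 1 else -(B x x + t₀ * B x h) / (2 * B x h) with hε
  have hεpos : 0 < ε := by
    rw [hε]; split_ifs with h0
    · norm_num
    · exact div_pos (by linarith) (mul_pos two_pos (lt_of_le_of_ne hxh (Ne.symm h0)))
  have hlt : B x x + (t₀ + ε) * B x h < 0 := by
    rw [hε]; split_ifs with h0
    · rw [h0] at key ⊢; linarith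
    · field_simp; linarith
  have hmem : x + (t₀ + ε) • h ∈ cone B h := by
    simp only [cone, Set.mem_ofPred_eq, map_add, map_smul, LinearMap.add_apply, LinearMap.smul_apply, smul_eq_mul]
    have := H.pos
    refine ⟨?_, by positivity⟩
    rw [H.symm h x]
    simp only [hP] at hP0
    have : 0 < (2 * t₀ * ε + ε ^ 2) * B h h := by positivity
    have : 0 ≤ 2 * ε * B x h := by positivity
    nlinarith
  have := hC _ hmem
  simp only [map_add, map_smul, smul_eq_mul] at this
  linarith

omit [IsModuleTopology ℝ V] [TopologicalSpace V] in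
/-- A negative definite family has at most `dim - 1` members. -/
theorem Hyp.card_succ_le (H : Hyp B h) {ι : Type*} [Fintype ι] (v : ι → V)
    (hneg : ∀ c : ι → ℝ, c ≠ 0 → ∑ i, ∑ j, c i * c j * B (v i) (v j) < 0) :
    Fintype.card ι + 1 ≤ Module.finrank ℝ V := by
  classical
  have hli : LinearIndependent ℝ fun o : Option ι => o.elim h v := by
    refine Fintype.linearIndependent_iff.2 fun g hg => ?_
    rw [Fintype.sum_option] at hg
    simp only [Option.elim] at hg
    have hc : (fun i => g (some i)) = 0 := by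
      by_contra hne
      have h1 := hneg _ hne
      rw [← apply_sum_sum, eq_neg_of_add_eq_zero_right hg] at h1
      simp only [map_neg, map_smul, LinearMap.neg_apply, LinearMap.smul_apply, smul_eq_mul, neg_neg] at h1
      nlinarith [H.pos, mul_self_nonneg (g none)]
    have hn : g none = 0 := by
      simp only [funext_iff, Pi.zero_apply] at hc
      simp only [hc, zero_smul, Finset.sum_const_zero, add_zero, smul_eq_zero] at hg
      exact hg.resolve_right fun h0 => by simpa [h0] using H.pos
    rintro (_ | i)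
    · exact hn
    · exact congrFun hc i
  simpa using hli.fintype_card_le_finrank

end Lattice

end Groth.Agent.NumCone
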